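import Mathlib.Algebra.Category.ModuleCat.Monoidal.Basic
import Mathlib.Algebra.Homology.ShortComplex.ModuleCat
import Mathlib.Algebra.Homology.HomologicalComplex
import Mathlib.Algebra.Homology.ShortComplex.HomologicalComplex
import Mathlib.RingTheory.Flat.Tensor
import Mathlib.LinearAlgebra.TensorProduct.Quotient

/-!
# Flatness of the augmentation of a complex which stays exact after every quotient
-/

universe u

open TensorProduct

namespace Groth.Agent.Lie3ModLib.FlatAfterQuot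

variable {R : Type u} [CommRing R] (I : Ideal R)

noncomputable def phi (N : Type u) [AddCommGroup N] [Module R N] : I ⊗[R] N →ₗ[R] N :=
  TensorProduct.lift ((LinearMap.lsmul R N).comp I.subtype)

variable {N N' : Type u} [AddCommGroup N] [Module R N] [AddCommGroup N'] [Module R N']

lemma phi_natural (f : N →ₗ[R] N') : f ∘ₗ phi I N = phi I N' ∘ₗ f.lTensor I :=
  TensorProduct.ext' fun a b => by simp [phi]

lemma phi_natural_apply (f : N →ₗ[R] N') (x : I ⊗[R] N) :
    phi I N' (f.lTensor I x) = f (phi I N x) :=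
  (LinearMap.congr_fun (phi_natural I f) x).symm

lemma phi_mem (x : I ⊗[R] N) : phi I N x ∈ I • (⊤ : Submodule R N) := by
  induction x using TensorProduct.induction_on with
  | zero => simp
  | tmul a b => simpa [phi] using Submodule.smul_mem_smul a.2 Submodule.mem_top
  | add x y hx hy => rw [map_add]; exact add_mem hx hy

lemma exists_phi_eq {y : N} (hy : y ∈ I • (⊤ : Submodule R N)) : ∃ x, phi I N x = y := by
  refine Submodule.smul_induction_on hy (fun a ha b _ => ⟨⟨a, ha⟩ ⊗ₜ b, by simp [phi]⟩) ?_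
  rintro _ _ ⟨x, rfl⟩ ⟨y, rfl⟩
  exact ⟨x + y, map_add _ _ _⟩

lemma one_tmul_eq_zero_iff (y : N) :
    ((1 : R ⧸ I) ⊗ₜ[R] y) = 0 ↔ y ∈ I • (⊤ : Submodule R N) := by
  rw [← (quotTensorEquivQuotSMul N I).map_eq_zero_iff, quotTensorEquivQuotSMul_mk_one_tmul,
    Submodule.Quotient.mk_eq_zero]

lemma exists_eq_one_tmul (y : (R ⧸ I) ⊗[R] N) : ∃ r, y = 1 ⊗ₜ[R] r := by
  obtain ⟨r, hr⟩ := Submodule.Quotient.mk_surjective _ (quotTensorEquivQuotSMul N I y)
  refine ⟨r, (quotTensorEquivQuotSMul N I).injective ?_⟩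
  rw [quotTensorEquivQuotSMul_mk_one_tmul, hr]

end Groth.Agent.Lie3ModLib.FlatAfterQuot

namespace Groth.Agent.Lie3ModLib.FlatAfterQuot

open CategoryTheory MonoidalCategory

theorem flat_of_exact {R : Type u} [CommRing R] (K : ChainComplex (ModuleCat.{u} R) ℕ)
    (hflat : Module.Flat R (K.X 1)) (hK : K.Acyclic)
    (hbc : ∀ I : Ideal R,
      (((tensorLeft (ModuleCat.of R (R ⧸ I))).mapHomologicalComplex
        (ComplexShape.down ℕ)).obj K).Acyclic) :
    Module.Flat R (K.X 0) := by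
  have h0 : ∀ m : K.X 0, ∃ p : K.X 1, (K.d 1 0).hom p = m := fun m => by
    have h := hK 0
    rw [HomologicalComplex.exactAt_iff' K 1 0 0 (by simp) (by simp),
      ShortComplex.moduleCat_exact_iff] at h
    exact h m (by simp; rfl)
  have h1 : ∀ p : K.X 1, (K.d 1 0).hom p = 0 → ∃ q : K.X 2, (K.d 2 1).hom q = p := fun p hp => by
    have h := hK 1
    rw [HomologicalComplex.exactAt_iff' K 2 1 0 (by simp) (by simp),
      ShortComplex.moduleCat_exact_iff] at h
    exact h p hp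
  rw [Module.Flat.iff_lift_lsmul_comp_subtype_injective]
  intro I hI
  have inj1 : Function.Injective (phi I (K.X 1)) :=
    (Module.Flat.iff_lift_lsmul_comp_subtype_injective.1 hflat) hI
  have h2 : ∀ q : K.X 2, ((1 : R ⧸ I) ⊗ₜ[R] (K.d 2 1).hom q) = 0 →
      ∃ y : (R ⧸ I) ⊗[R] (K.X 3), (K.d 3 2).hom.lTensor (R ⧸ I) y = 1 ⊗ₜ q := fun q hq => by
    have h := hbc I 2
    rw [HomologicalComplex.exactAt_iff' _ 3 2 1 (by simp) (by simp),
      ShortComplex.moduleCat_exact_iff] at h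
    exact h ((1 : R ⧸ I) ⊗ₜ[R] q) hq
  change Function.Injective (phi I (K.X 0))
  rw [injective_iff_map_eq_zero]
  intro x hx
  obtain ⟨x', rfl⟩ := (LinearMap.lTensor_surjective I h0) x
  rw [phi_natural_apply] at hx
  obtain ⟨q, hq⟩ := h1 _ hx
  obtain ⟨y, hy⟩ := h2 q (by rw [hq, one_tmul_eq_zero_iff]; exact phi_mem I x')
  obtain ⟨r, rfl⟩ := exists_eq_one_tmul I y
  rw [LinearMap.lTensor_tmul, ← sub_eq_zero, ← tmul_sub, one_tmul_eq_zero_iff] at hy
  obtain ⟨w, hw⟩ := exists_phi_eq I hy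
  have hdd : ∀ (i : ℕ) (z : K.X (i + 2)), (K.d (i + 1) i).hom ((K.d (i + 2) (i + 1)).hom z) = 0 :=
    fun i z => LinearMap.congr_fun (congrArg ModuleCat.Hom.hom (K.d_comp_d (i + 2) (i + 1) i)) z
  have hx' : x' = (K.d 2 1).hom.lTensor I (-w) := inj1 (by
    rw [phi_natural_apply, ← hq, map_neg, hw, neg_sub, map_sub, hdd 1 r, sub_zero])
  rw [hx', ← LinearMap.comp_apply, ← LinearMap.lTensor_comp,
    show (K.d 1 0).hom ∘ₗ (K.d 2 1).hom = 0 from LinearMap.ext fun z => hdd 0 z,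
    LinearMap.lTensor_zero, LinearMap.zero_apply]

end Groth.Agent.Lie3ModLib.FlatAfterQuot
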